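import Cfsg.Prelude.Def_Solvable
import Cfsg.Agent.PGroup.Frattini
import Mathlib

/-!
`p`-groups with an automorphism of prime order `q ≠ p` centralising every invariant proper
subgroup: the kernels of minimal non-nilpotent groups.
-/

set_option autoImplicit false
set_option linter.unusedSectionVars false

namespace Cfsg.Agent.PSolv.MNN

open Subgroup
open scoped commutatorElement

variable {P : Type*} [Group P] {p : ℕ}

/-- An automorphism as in a minimal non-nilpotent group. -/
structure HasAuto (p : ℕ) (P : Type*) [Group P] : Prop where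
  ex : ∃ (y : MulAut P) (q : ℕ), q.Prime ∧ q ≠ p ∧ y ≠ 1 ∧ y ^ q = 1 ∧
    ∀ R : Subgroup P, R ≠ ⊤ → (∀ r ∈ R, y r ∈ R) → ∀ r ∈ R, y r = r

theorem HasAuto.congr {P' : Type*} [Group P'] (e : P ≃* P') (h : HasAuto p P) :
    HasAuto p P' := by
  obtain ⟨y, q, hq, hqp, hy, hyq, hR⟩ := h.ex
  have hap : ∀ x, MulAut.congr e y x = e (y (e.symm x)) := fun x => rfl
  refine ⟨MulAut.congr e y, q, hq, hqp, fun h1 => hy ?_, by rw [← map_pow, hyq, map_one],
    fun R hRne hinv r hr => ?_⟩
  · exact (MulAut.congr e).injective (h1.trans (map_one _).symm)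
  · have hne : R.comap e.toMonoidHom ≠ ⊤ := fun h2 => hRne (eq_top_iff.2 fun x _ => by
      have : e.symm x ∈ R.comap e.toMonoidHom := h2 ▸ mem_top _
      simpa using this)
    have := hR _ hne (fun x hx => ?_) (e.symm r) (by simpa using hr)
    · rw [hap, this, e.apply_symm_apply]
    · have h3 := hinv _ hx
      rw [hap] at h3
      simpa using h3

/-- The consequences used for `p`-length one. -/
structure Good (p : ℕ) (P : Type*) [Group P] : Prop where
  pow_mem : ∀ x : P, x ^ p ∈ center P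
  comm_mem : ∀ a b : P, ⁅a, b⁆ ∈ center P
  comm_frattini : p < 5 → ∀ V : Subgroup P, V.index = p → center P ≤ V →
    ∀ a b : P, ⁅a, b⁆ ∈ (frattini V).map V.subtype

theorem comm_mul_left (hc : ∀ a b : P, ⁅a, b⁆ ∈ center P) (u v w : P) :
    ⁅u * v, w⁆ = ⁅u, w⁆ * ⁅v, w⁆ := by
  have h1 : ⁅u * v, w⁆ = u * ⁅v, w⁆ * u⁻¹ * ⁅u, w⁆ := by
    simp only [commutatorElement_def]; group
  rw [h1, mem_center_iff.1 (hc v w) u, mul_inv_cancel_right, mem_center_iff.1 (hc v w) _]

theorem comm_mul_right (hc : ∀ a b : P, ⁅a, b⁆ ∈ center P) (u v w : P) :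
    ⁅u, v * w⁆ = ⁅u, v⁆ * ⁅u, w⁆ := by
  have h1 : ⁅u, v * w⁆ = ⁅u, v⁆ * (v * ⁅u, w⁆ * v⁻¹) := by
    simp only [commutatorElement_def]; group
  rw [h1, mem_center_iff.1 (hc u w) v, mul_inv_cancel_right]

theorem comm_pow_left (hc : ∀ a b : P, ⁅a, b⁆ ∈ center P) (u w : P) :
    ∀ n : ℕ, ⁅u ^ n, w⁆ = ⁅u, w⁆ ^ n := by
  intro n
  induction n with
  | zero => simp
  | succ n ih => rw [pow_succ, comm_mul_left hc, ih, ← pow_succ]

theorem comm_pow_right (hc : ∀ a b : P, ⁅a, b⁆ ∈ center P) (u w : P) :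
    ∀ n : ℕ, ⁅u, w ^ n⁆ = ⁅u, w⁆ ^ n := by
  intro n
  induction n with
  | zero => simp
  | succ n ih => rw [pow_succ, comm_mul_right hc, ih, ← pow_succ]

/-- The linear map on exponent pairs induced by an automorphism of a group of order nine. -/
def step (i j : ZMod 3) (t : ZMod 3 × ZMod 3) : ZMod 3 × ZMod 3 :=
  (t.2 * i, t.1 + t.2 * j)

theorem step_iterate : ∀ i j : ZMod 3, i ≠ 0 → (step i j)^[24] (1, 0) = (1, 0) := by decide

theorem good_of_hasAuto [Finite P] [hp : Fact p.Prime] (hP : IsPGroup p P) (h : HasAuto p P) :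
    Good p P := by
  classical
  obtain ⟨y, q, hq, hqp, hy1, hyq, hfix⟩ := h.ex
  haveI : Nontrivial P := by
    by_contra hs
    rw [not_nontrivial_iff_subsingleton] at hs
    exact hy1 (MulEquiv.ext fun x => Subsingleton.elim _ _)
  have hpow : ∀ n : ℕ, ∀ x, y x = x → (y ^ n) x = x := by
    intro n x hx
    induction n with
    | zero => simp
    | succ n ih => rw [pow_succ, MulAut.mul_apply, hx, ih]
  have hgen : closure (Set.range fun a => a⁻¹ * y a) = (⊤ : Subgroup P) := by
    by_contra hne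
    refine hy1 (MulEquiv.ext fun a => ?_)
    set R := closure (Set.range fun a => a⁻¹ * y a) with hR
    have hinv : ∀ r ∈ R, y r ∈ R := by
      have : R ≤ R.comap y.toMonoidHom := (closure_le _).2 (by
        rintro _ ⟨a, rfl⟩
        show y (a⁻¹ * y a) ∈ R
        rw [map_mul, map_inv]
        exact subset_closure ⟨y a, rfl⟩)
      exact fun r hr => this hr
    have hd : y (a⁻¹ * y a) = a⁻¹ * y a := hfix R hne hinv _ (subset_closure ⟨a, rfl⟩)
    have hn : ∀ n : ℕ, (y ^ n) a = a * (a⁻¹ * y a) ^ n := by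
      intro n
      induction n with
      | zero => simp
      | succ n ih =>
        rw [pow_succ', MulAut.mul_apply, ih, map_mul, map_pow, hd, pow_succ' (a⁻¹ * y a),
          ← mul_assoc, mul_inv_cancel_left]
    have h1 := hn q
    rw [hyq, MulAut.one_apply, left_eq_mul] at h1
    obtain ⟨k, hk⟩ := hP (a⁻¹ * y a)
    have h2 : a⁻¹ * y a = 1 := by
      have := pow_gcd_eq_one.2 ⟨h1, hk⟩
      rwa [Nat.Coprime.gcd_eq_one (Nat.Coprime.pow_right k
        ((Nat.coprime_primes hq hp.out).2 hqp)), pow_one] at this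
    exact (inv_mul_eq_one.1 h2).symm
  have hcentral : ∀ R : Subgroup P, R.Normal → (∀ r ∈ R, y r = r) → R ≤ center P := by
    intro R hRn hR z hz
    have hle : closure (Set.range fun a => a⁻¹ * y a) ≤ centralizer {z} := (closure_le _).2 (by
      rintro _ ⟨a, rfl⟩
      rw [SetLike.mem_coe, mem_centralizer_singleton_iff]
      have h1 := hR _ (hRn.conj_mem z hz a)
      rw [map_mul, map_mul, hR z hz, map_inv] at h1
      have h2 : a⁻¹ * y a * z * (a⁻¹ * y a)⁻¹ = z := by
        calc a⁻¹ * y a * z * (a⁻¹ * y a)⁻¹ = a⁻¹ * (y a * z * (y a)⁻¹) * a := by group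
          _ = z := by rw [h1]; group
      exact mul_inv_eq_iff_eq_mul.1 h2)
    rw [hgen] at hle
    exact mem_center_iff.2 fun g => mem_centralizer_singleton_iff.1 (hle (mem_top g))
  have hΦinv : ∀ r ∈ frattini P, y r ∈ frattini P := by
    intro r hr
    have := (Subgroup.characteristic_iff_comap_eq.1 (inferInstance : (frattini P).Characteristic)) y
    exact (this.symm ▸ hr : r ∈ (frattini P).comap y.toMonoidHom)
  have hΦne : frattini P ≠ ⊤ := fun h1 =>
    bot_ne_top (α := Subgroup P) (PGroup.eq_top_of_sup_frattini (H := ⊥) (by rw [h1, bot_sup_eq]))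
  have hΦfix := hfix _ hΦne hΦinv
  have hΦZ : frattini P ≤ center P := hcentral _ inferInstance hΦfix
  have hc : ∀ a b : P, ⁅a, b⁆ ∈ center P := fun a b =>
    hΦZ (PGroup.commutatorElement_mem_frattini hP a b)
  have hpz : ∀ x : P, x ^ p ∈ center P := fun x => hΦZ (PGroup.pow_mem_frattini hP x)
  have hinvcomm : ∀ a b : P, ⁅y a, y b⁆ = ⁅a, b⁆ := fun a b => by
    rw [← map_commutatorElement y a b]
    exact hΦfix _ (PGroup.commutatorElement_mem_frattini hP a b)
  have hsq : ∀ x : P, y x ^ p = x ^ p := fun x => by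
    rw [← map_pow]; exact hΦfix _ (PGroup.pow_mem_frattini hP x)
  have hmid : ∀ R : Subgroup P, R ≠ ⊤ → center P ≤ R → (∀ r ∈ R, y r ∈ R) → R ≤ center P := by
    intro R hne hle hinv
    refine hcentral R ⟨fun r hr g => ?_⟩ (hfix R hne hinv)
    have : g * r * g⁻¹ = ⁅g, r⁆ * r := by rw [commutatorElement_def]; group
    rw [this]
    exact R.mul_mem (hle (hc g r)) hr
  refine ⟨hpz, hc, fun hp5 V hVi hZV a b => ?_⟩
  haveI : V.Normal := ⟨fun v hv g => by
    have : g * v * g⁻¹ = ⁅g, v⁆ * v := by rw [commutatorElement_def]; group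
    rw [this]
    exact V.mul_mem (hZV (hc g v)) hv⟩
  by_contra hab
  set D := (frattini V).map V.subtype with hD
  set c := ⁅a, b⁆ with hcdef
  have hVp : IsPGroup p V := hP.to_subgroup V
  have hDcomm : ∀ u ∈ V, ∀ v ∈ V, ⁅u, v⁆ ∈ D := fun u hu v hv =>
    ⟨⁅(⟨u, hu⟩ : V), ⟨v, hv⟩⁆, PGroup.commutatorElement_mem_frattini hVp _ _,
      map_commutatorElement V.subtype _ _⟩
  have hDpow : ∀ u ∈ V, u ^ p ∈ D := fun u hu =>
    ⟨(⟨u, hu⟩ : V) ^ p, PGroup.pow_mem_frattini hVp _, rfl⟩
  have hDΦ : D ≤ center P := (PGroup.map_subtype_frattini_le hP V).trans hΦZ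
  have hc1 : c ≠ 1 := fun e => hab (e.symm ▸ one_mem D)
  have hcp : ∀ u v : P, ⁅u, v⁆ ^ p = 1 := fun u v => by
    rw [← comm_pow_left hc, commutatorElement_eq_one_iff_commute]
    exact (mem_center_iff.1 (hpz u) v).symm
  obtain ⟨E, -, hEmax⟩ := Finite.exists_le_maximal
    (p := fun E : Subgroup P => D ≤ E ∧ E ≤ center P ∧ c ∉ E) ⟨le_rfl, hDΦ, hab⟩
  obtain ⟨hDE, hEZ, hcE⟩ := hEmax.1
  have hdec : ∀ u v : P, ∃ i : ℕ, ⁅u, v⁆ * c ^ i ∈ E := by
    intro u v
    set d := ⁅u, v⁆ with hd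
    by_cases hdE : d ∈ E
    · exact ⟨0, by simpa using hdE⟩
    have hlt : ¬ (E ⊔ zpowers d ≤ E) := fun h1 => hdE (h1 (mem_sup_right (mem_zpowers d)))
    have hcmem : c ∈ E ⊔ zpowers d := by
      by_contra hn
      exact hlt (hEmax.2 ⟨hDE.trans le_sup_left, sup_le hEZ (zpowers_le.2 (hc u v)), hn⟩ le_sup_left)
    haveI : E.Normal := ⟨fun e he g => by
      rw [mem_center_iff.1 (hEZ he) g, mul_inv_cancel_right]; exact he⟩
    obtain ⟨e, he, w, hw, hew⟩ := mem_sup_of_normal_left.1 hcmem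
    obtain ⟨j, hj⟩ := mem_zpowers_iff.1 hw
    have hjp : ¬ (p : ℤ) ∣ j := by
      rintro ⟨t, rfl⟩
      refine hcE ?_
      rw [← hew, ← hj, zpow_mul, zpow_natCast, hcp, one_zpow, mul_one]
      exact he
    obtain ⟨x, z, hxz⟩ := Int.isCoprime_iff_nat_coprime.2
      (show Nat.Coprime (Int.natAbs (p : ℤ)) j.natAbs by
        rw [Int.natAbs_natCast]
        exact (Nat.Prime.coprime_iff_not_dvd hp.out).2 fun h1 => hjp (Int.natCast_dvd.2 h1))
    have hcd : c ^ z * d⁻¹ ∈ E := by
      have h1 : c ^ z = e ^ z * d ^ (j * z) := by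
        rw [← hew, ← hj, Commute.mul_zpow (mem_center_iff.1 (hEZ he) _).symm, ← zpow_mul]
      have h2 : d ^ (j * z) = d := by
        rw [show j * z = 1 + (p : ℤ) * (-x) by linear_combination hxz, zpow_add, zpow_one, zpow_mul,
          zpow_natCast, hcp, one_zpow, mul_one]
      rw [h1, h2, mul_inv_cancel_right]
      exact E.zpow_mem he z
    refine ⟨((-z) % (p : ℤ)).toNat, ?_⟩
    have h3 : c ^ ((-z) % (p : ℤ)).toNat = (c ^ z)⁻¹ := by
      rw [← zpow_natCast, Int.toNat_of_nonneg (Int.emod_nonneg _ (by exact_mod_cast hp.out.ne_zero)),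
        ← zpow_neg]
      rw [Int.emod_def, sub_eq_add_neg, zpow_add, ← mul_neg, zpow_mul, zpow_natCast, hcp,
        one_zpow, mul_one]
    rw [h3]
    have h5 := E.inv_mem hcd
    rwa [mul_inv_rev, inv_inv] at h5
  let Rad : Subgroup P :=
    { carrier := {x | ∀ g, ⁅x, g⁆ ∈ E}
      one_mem' := fun g => by rw [commutatorElement_one_left]; exact one_mem E
      mul_mem' := fun {u v} hu hv g => by rw [comm_mul_left hc]; exact mul_mem (hu g) (hv g)
      inv_mem' := fun {u} hu g => by
        have h1 := comm_mul_left hc u⁻¹ u g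
        rw [inv_mul_cancel, commutatorElement_one_left] at h1
        rw [eq_inv_of_mul_eq_one_left h1.symm]
        exact inv_mem (hu g) }
  have hRne : Rad ≠ ⊤ := fun h1 => hcE ((h1 ▸ mem_top a : a ∈ Rad) b)
  have hRad : Rad ≤ center P := by
    refine hmid Rad hRne (fun z hz g => ?_) fun r hr g => ?_
    · rw [commutatorElement_eq_one_iff_commute.2 (mem_center_iff.1 hz g).symm]
      exact one_mem E
    · obtain ⟨g', rfl⟩ := y.surjective g
      rw [hinvcomm]
      exact hr g'
  have hsup : ∀ g, g ∉ V → V ⊔ zpowers g = ⊤ := by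
    intro g hg
    have hlt : V < V ⊔ zpowers g :=
      left_lt_sup.2 fun h1 => hg (h1 (mem_zpowers g))
    have hdvd := Subgroup.index_dvd_of_le hlt.le
    rw [hVi] at hdvd
    rcases (Nat.dvd_prime hp.out).1 hdvd with h1 | h1
    · exact index_eq_one.1 h1
    · exact absurd (Subgroup.index_strictAnti hlt) (by rw [h1, hVi]; exact lt_irrefl p)
  have hker : ∀ g, g ∉ V → ∀ v ∈ V, ⁅v, g⁆ ∈ E → v ∈ center P := by
    intro g hg v hv hvg
    refine hRad fun w => ?_
    have hle : V ⊔ zpowers g ≤ (E.comap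
        ({ toFun := fun w => ⁅v, w⁆
           map_one' := commutatorElement_one_right v
           map_mul' := fun s t => comm_mul_right hc v s t } : P →* P)) :=
      sup_le (fun w hw => hDE (hDcomm v hv w hw)) (zpowers_le.2 hvg)
    rw [hsup g hg] at hle
    exact hle (mem_top w)
  have hcyc : ∀ g, Subgroup.center P ⊔ zpowers g ≠ ⊤ := by
    intro g h1
    have hle : center P ⊔ zpowers g ≤ centralizer {g} :=
      sup_le (center_le_centralizer _) (zpowers_le.2 (mem_centralizer_singleton_iff.2 rfl))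
    have hgz : g ∈ center P := mem_center_iff.2 fun w =>
      mem_centralizer_singleton_iff.1 (hle (h1 ▸ mem_top w))
    rw [sup_eq_left.2 (zpowers_le.2 hgz)] at h1
    exact hc1 (commutatorElement_eq_one_iff_commute.2
      (mem_center_iff.1 (h1 ▸ mem_top b : b ∈ center P) a))
  have hline : ∀ g, y g ∈ center P ⊔ zpowers g → g ∈ center P := by
    intro g hg
    refine hmid _ (hcyc g) le_sup_left ?_ (mem_sup_right (mem_zpowers g))
    have hle : center P ⊔ zpowers g ≤ (center P ⊔ zpowers g).comap y.toMonoidHom :=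
      sup_le (fun z hz => mem_sup_left (by
        have := (Subgroup.characteristic_iff_comap_eq.1 (inferInstance : (center P).Characteristic)) y
        exact (this.symm ▸ hz : z ∈ (center P).comap y.toMonoidHom))) (zpowers_le.2 hg)
    exact fun r hr => hle hr
  obtain ⟨v, hvV, hvZ⟩ : ∃ v ∈ V, v ∉ center P := by
    by_contra hall
    push Not at hall
    obtain ⟨x, hx⟩ : ∃ x, x ∉ V := by
      by_contra hx
      push Not at hx
      rw [show V = ⊤ from eq_top_iff.2 fun x _ => hx x, index_top] at hVi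
      exact hp.out.ne_one hVi.symm
    refine hcyc x (eq_top_iff.2 ?_)
    rw [← hsup x hx]
    exact sup_le_sup_right hall _
  have hVv : ∀ g, g ∉ V → V ≤ center P ⊔ zpowers v := by
    intro g hg w hw
    obtain ⟨i, hi⟩ := hdec w g
    obtain ⟨i₀, hi₀⟩ := hdec v g
    have hi0 : ¬ p ∣ i₀ := by
      rintro ⟨t, rfl⟩
      rw [pow_mul, hcp, one_pow, mul_one] at hi₀
      exact hvZ (hker g hg v hvV hi₀)
    haveI : NeZero p := ⟨hp.out.ne_zero⟩
    set k := (-(i : ZMod p) / (i₀ : ZMod p)).val with hk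
    have hki : (p : ℕ) ∣ i + k * i₀ := by
      rw [← ZMod.natCast_eq_zero_iff]; push_cast; rw [hk, ZMod.natCast_zmod_val, div_mul_cancel₀ _ (fun h1 => hi0 ((ZMod.natCast_eq_zero_iff i₀ p).1 h1)), add_neg_cancel]
    have hmem : ⁅w * v ^ k, g⁆ ∈ E := by
      rw [comm_mul_left hc, comm_pow_left hc]
      have h1 : ⁅w, g⁆ * c ^ i * (⁅v, g⁆ * c ^ i₀) ^ k ∈ E := mul_mem hi (pow_mem hi₀ k)
      rw [Commute.mul_pow (mem_center_iff.1 (hc v g) _).symm, ← pow_mul, mul_comm i₀,
        mul_assoc, ← mul_assoc (c ^ i), mem_center_iff.1 (pow_mem (hc v g) k) (c ^ i),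
        mul_assoc, ← pow_add] at h1
      obtain ⟨t, ht⟩ := hki
      rwa [ht, pow_mul, hcp, one_pow, mul_one] at h1
    have hz := hker g hg _ (mul_mem hw (pow_mem hvV k)) hmem
    have := mul_mem (mem_sup_left (T := zpowers v) hz)
      (mem_sup_right (S := center P) (inv_mem (pow_mem (mem_zpowers v) k)))
    rwa [mul_inv_cancel_right] at this
  set g := y v with hg
  have hgV : g ∉ V := by
    intro h1
    obtain ⟨x, hx⟩ : ∃ x, x ∉ V := by
      by_contra hx
      push Not at hx
      rw [show V = ⊤ from eq_top_iff.2 fun x _ => hx x, index_top] at hVi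
      exact hp.out.ne_one hVi.symm
    exact hvZ (hline v (hVv x hx h1))
  have htop : ∀ w, ∃ i j : ℕ, (v ^ i * g ^ j)⁻¹ * w ∈ center P := by
    intro w
    have h1 : w ∈ V ⊔ zpowers g := by rw [hsup g hgV]; exact mem_top w
    obtain ⟨u, hu, t, ht, rfl⟩ := mem_sup_of_normal_left.1 h1
    obtain ⟨z, hz, s, hs, rfl⟩ := mem_sup_of_normal_left.1 (hVv g hgV hu)
    obtain ⟨i, rfl⟩ := mem_powers_iff_mem_zpowers.2 hs
    obtain ⟨j, rfl⟩ := mem_powers_iff_mem_zpowers.2 ht
    refine ⟨i, j, ?_⟩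
    rw [mul_assoc z, ← mem_center_iff.1 hz (v ^ i * g ^ j), inv_mul_cancel_left]
    exact hz
  obtain ⟨i, j, hz⟩ := htop (y g)
  set z := (v ^ i * g ^ j)⁻¹ * y g with hzdef
  have hyg : y g = v ^ i * g ^ j * z := by rw [hzdef, mul_inv_cancel_left]
  have hipmod : ¬ p ∣ i := by
    rintro ⟨t, rfl⟩
    refine hvZ ?_
    have hgZ : g ∈ center P := hline g (by
      rw [hyg]
      refine mul_mem (mul_mem (mem_sup_left ?_) (mem_sup_right (pow_mem (mem_zpowers g) j)))
        (mem_sup_left hz)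
      rw [pow_mul]; exact pow_mem (hpz v) t)
    exact absurd (hZV hgZ) hgV
  have hflip : ¬ (g⁻¹ * v⁻¹ * y (v * g)) ∈ center P := by
    intro h1
    have h2 : v * g ∈ center P := hline _ (by
      have : y (v * g) = v * g * (g⁻¹ * v⁻¹ * y (v * g)) := by group
      rw [this]
      exact mul_mem (mem_sup_right (mem_zpowers _)) (mem_sup_left h1))
    refine hgV ?_
    have := mul_mem (inv_mem hvV) (hZV h2)
    rwa [inv_mul_cancel_left] at this
  rcases (show p = 2 ∨ p = 3 from by
    have := hp.out.two_le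
    interval_cases p <;> first | left; rfl | right; rfl | exact absurd hp.out (by decide)) with
    rfl | rfl
  · -- squares
    have hjodd : ¬ 2 ∣ j := by
      rintro ⟨t, rfl⟩
      refine hflip ?_
      rw [map_mul, ← hg, hyg, pow_mul g]
      obtain ⟨s, hs⟩ : ∃ s, i = 2 * s + 1 := ⟨i / 2, by omega⟩
      rw [hs, pow_succ, pow_mul]
      have e : g⁻¹ * v⁻¹ * (g * ((v ^ 2) ^ s * v * (g ^ 2) ^ t * z)) =
          ⁅g⁻¹, v⁻¹⁆ * (v⁻¹ * (v ^ 2) ^ s * v) * ((g ^ 2) ^ t * z) := by
        rw [commutatorElement_def]; group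
      rw [e]
      refine mul_mem (mul_mem (hc _ _) ?_) (mul_mem (pow_mem (hpz g) t) hz)
      rw [mem_center_iff.1 (pow_mem (hpz v) s) v⁻¹, inv_mul_cancel_right]
      exact pow_mem (hpz v) s
    obtain ⟨s, rfl⟩ : ∃ s, i = 2 * s + 1 := ⟨i / 2, by omega⟩
    obtain ⟨t, rfl⟩ : ∃ t, j = 2 * t + 1 := ⟨j / 2, by omega⟩
    have hz' : (v ^ 2) ^ s * (g ^ 2) ^ t * z ∈ center P :=
      mul_mem (mul_mem (pow_mem (hpz v) s) (pow_mem (hpz g) t)) hz
    set z' := (v ^ 2) ^ s * (g ^ 2) ^ t * z with hz'def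
    have hyg' : y g = v * g * z' := by
      rw [hyg, pow_succ, pow_succ, pow_mul, pow_mul, hz'def]
      have e1 := mem_center_iff.1 (pow_mem (hpz v) s)
      have e2 := mem_center_iff.1 (pow_mem (hpz g) t)
      rw [← e1 v, ← e2 g, mul_assoc v ((v ^ 2) ^ s), ← mul_assoc ((v ^ 2) ^ s) g, ← e1 g]
      simp only [mul_assoc]
    have h1 : (v * g * z') ^ 2 = v ^ 2 := by
      rw [← hyg', hsq, hg, hsq]
    have hzV : z' ^ 2 ∈ D := hDpow _ (hZV hz')
    have h2 : ⁅g, v⁆ = (z' ^ 2 * v ^ 2)⁻¹ := by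
      refine eq_inv_of_mul_eq_one_left ?_
      have h3 : (v * g * z') ^ 2 = ⁅g, v⁆ * (z' ^ 2 * v ^ 2) * g ^ 2 := by
        rw [Commute.mul_pow (mem_center_iff.1 hz' _)]
        have e : (v * g) ^ 2 = ⁅g, v⁆ * v ^ 2 * g ^ 2 := by
          have e0 : (v * g) ^ 2 = v * ⁅g, v⁆ * v * g * g := by
            rw [sq, commutatorElement_def]; group
          rw [e0, mem_center_iff.1 (hc g v) v, mul_assoc _ g g, ← sq g, mul_assoc _ v v, ← sq v]
        rw [e, mem_center_iff.1 (pow_mem hz' 2) _, ← mul_assoc, ← mul_assoc,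
          ← mem_center_iff.1 (pow_mem hz' 2) ⁅g, v⁆]
        group
      rw [h3] at h1
      exact mul_eq_right.1 (h1.trans (hsq v).symm)
    have hvg : ⁅v, g⁆ ∈ E := by
      rw [← commutatorElement_inv, h2, inv_inv]
      exact hDE (mul_mem hzV (hDpow v hvV))
    exact hvZ (hker g hgV v hvV hvg)
  · -- order nine
    by_cases hq2 : q = 2
    · subst hq2
      refine hflip ?_
      have hyy : y g = v := by
        rw [hg, ← MulAut.mul_apply, ← sq, hyq, MulAut.one_apply]
      rw [map_mul, ← hg, hyy]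
      have : g⁻¹ * v⁻¹ * (g * v) = ⁅g⁻¹, v⁻¹⁆ := by rw [commutatorElement_def]; group
      rw [this]
      exact hc _ _
    let W := P ⧸ center P
    have hWcomm : ∀ s t : W, Commute s t := by
      intro s t
      induction s using QuotientGroup.induction_on with | _ s =>
      induction t using QuotientGroup.induction_on with | _ t =>
      show ((s * t : P) : W) = ((t * s : P) : W)
      rw [QuotientGroup.eq]
      have : (s * t)⁻¹ * (t * s) = ⁅t⁻¹, s⁻¹⁆ := by rw [commutatorElement_def]; group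
      rw [this]
      exact hc _ _
    have hW3 : ∀ s : W, s ^ 3 = 1 := by
      intro s
      induction s using QuotientGroup.induction_on with | _ s =>
      exact (QuotientGroup.eq_one_iff (s ^ 3)).2 (hpz s)
    have hmod : ∀ (s : W) (n : ℕ), s ^ n = s ^ ((n : ZMod 3)).val := fun s n => by
      rw [ZMod.val_natCast]; exact pow_eq_pow_mod n (hW3 s)
    have hiz : (i : ZMod 3) ≠ 0 := fun h1 => hipmod ((ZMod.natCast_eq_zero_iff i 3).1 h1)
    have hiter : ∀ n : ℕ, ((y ^ n) v : W) =
        (v : W) ^ ((step i j)^[n] (1, 0)).1.val * (g : W) ^ ((step i j)^[n] (1, 0)).2.val := by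
      intro n
      induction n with
      | zero =>
        simp [ZMod.val_one]
      | succ n ih =>
        set T := (step i j)^[n] (1, 0) with hT
        have h1 : ((v ^ T.1.val * g ^ T.2.val)⁻¹ * (y ^ n) v : P) ∈ center P := by
          rw [← QuotientGroup.eq, QuotientGroup.mk_mul, QuotientGroup.mk_pow,
            QuotientGroup.mk_pow, ih]
        have h2 : ((y ^ (n + 1)) v : W) = ((y (v ^ T.1.val * g ^ T.2.val) : P) : W) := by
          rw [pow_succ', MulAut.mul_apply]
          symm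
          rw [QuotientGroup.eq, ← map_inv, ← map_mul]
          have := (Subgroup.characteristic_iff_comap_eq.1
            (inferInstance : (center P).Characteristic)) y
          exact (this.symm ▸ h1 : _ ∈ (center P).comap y.toMonoidHom)
        have hygW : ((y g : P) : W) = (v : W) ^ i * (g : W) ^ j := by
          rw [← QuotientGroup.mk_pow, ← QuotientGroup.mk_pow, ← QuotientGroup.mk_mul]
          exact (QuotientGroup.eq.2 hz).symm
        rw [h2, map_mul, map_pow, map_pow, ← hg, QuotientGroup.mk_mul, QuotientGroup.mk_pow,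
          QuotientGroup.mk_pow, hygW, (hWcomm _ _).mul_pow, ← pow_mul, ← pow_mul,
          ← mul_assoc, (hWcomm ((g : W) ^ T.1.val) ((v : W) ^ (i * T.2.val))).eq, mul_assoc,
          ← pow_add, Function.iterate_succ_apply', ← hT, hmod (v : W), hmod (g : W)]
        simp only [step, Nat.cast_mul, Nat.cast_add, ZMod.natCast_zmod_val]
        congr 3 <;> ring
    have h24 := hiter 24
    rw [step_iterate _ _ hiz, ZMod.val_one, ZMod.val_zero, pow_zero, mul_one, pow_one] at h24
    have hcop : Nat.Coprime q 24 := by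
      rw [Nat.Prime.coprime_iff_not_dvd hq]
      intro h1
      have hq24 : q ≤ 24 := Nat.le_of_dvd (by norm_num) h1
      interval_cases q <;> first | omega | exact absurd hq (by decide)
    obtain ⟨m, hm⟩ := Nat.exists_mul_mod_eq_one_of_coprime hcop.symm hq.one_lt
    have hy24 : y = (y ^ 24) ^ m := by
      rw [← pow_mul, pow_eq_pow_mod _ hyq, hm.2, pow_one]
    have hfix24 : ∀ k : ℕ, (((y ^ 24) ^ k) v : W) = (v : W) := by
      intro k
      induction k with
      | zero => simp
      | succ k ih =>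
        rw [pow_succ', MulAut.mul_apply]
        refine Eq.trans ?_ h24
        rw [QuotientGroup.eq, ← map_inv, ← map_mul]
        have := (Subgroup.characteristic_iff_comap_eq.1
          (inferInstance : (center P).Characteristic)) (y ^ 24)
        exact (this.symm ▸ QuotientGroup.eq.1 ih : _ ∈ (center P).comap (y ^ 24).toMonoidHom)
    refine hgV ?_
    have h5 := hfix24 m
    rw [← hy24, ← hg, eq_comm, QuotientGroup.eq] at h5
    have := mul_mem hvV (hZV h5)
    rwa [mul_inv_cancel_left] at this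

end Cfsg.Agent.PSolv.MNN
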