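import Cfsg.Prelude.Def_Solvable
import Cfsg.Prelude.Def_PLocal
import Cfsg.Agent.PSolv.MNNKernel
import Cfsg.Agent.PSolv.HallHigman
import Cfsg.Agent.PSolv.HallHigmanDual
import Cfsg.Agent.Lib.PLength
import Cfsg.Agent.Coprime.Generation
import Cfsg.Agent.Stability.Action
import Cfsg.Agent.Char.Nilpotent
import Mathlib

/-!
`p`-soluble groups whose Sylow `p`-subgroup is the kernel of a minimal non-nilpotent group.
-/

set_option autoImplicit false
set_option linter.unusedSectionVars false

namespace Cfsg.Agent.PSolv.MNN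

open Subgroup
open scoped commutatorElement

universe u

variable {p : ℕ} [hp : Fact p.Prime]

theorem hasAuto_of_minimal {X : Type*} [Group X] [Finite X]
    (hnn : ¬ Group.IsNilpotent X) (hmin : ∀ H : Subgroup X, H ≠ ⊤ → Group.IsNilpotent H)
    (P : Sylow p X) (hn : (P : Subgroup X).Normal) (hne : (P : Subgroup X) ≠ ⊥) :
    HasAuto p P := by
  classical
  haveI := hn
  obtain ⟨H, hH⟩ := Subgroup.exists_right_complement'_of_coprime P.card_coprime_index
  have hcard : Nat.card H = (P : Subgroup X).index := (hH.symm.index_eq_card).symm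
  have hHne : H ≠ ⊤ := fun e => by
    subst e
    exact hne (Subgroup.isComplement'_top_right.1 hH)
  have hex : ∃ y ∈ H, ¬ ∀ x ∈ (P : Subgroup X), y * x = x * y := by
    by_contra hall
    push Not at hall
    refine hnn ?_
    haveI := hmin H hHne
    haveI : Group.IsNilpotent (P : Subgroup X) := P.2.isNilpotent
    let f : ↥(P : Subgroup X) × ↥H →* X :=
      MonoidHom.noncommCoprod (P : Subgroup X).subtype H.subtype
        fun x y => (hall y y.2 x x.2).symm
    refine Group.nilpotent_of_surjective f fun g => ?_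
    obtain ⟨⟨a, b⟩, h⟩ := hH.2 g
    exact ⟨(a, b), h⟩
  obtain ⟨y, ⟨hyH, hy⟩, hymin⟩ := Set.exists_min_image
    {y : X | y ∈ H ∧ ¬ ∀ x ∈ (P : Subgroup X), y * x = x * y} orderOf (Set.toFinite _)
    (by obtain ⟨y, h1, h2⟩ := hex; exact ⟨y, h1, h2⟩)
  have hy1 : orderOf y ≠ 1 := fun e => hy fun x _ => by
    rw [orderOf_eq_one_iff.1 e, one_mul, mul_one]
  obtain ⟨q, hq, hqd⟩ := Nat.exists_prime_and_dvd hy1
  have hcop : (orderOf y).Coprime p := by
    rw [Nat.coprime_comm, hp.out.coprime_iff_not_dvd]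
    intro h1
    refine P.not_dvd_index ?_
    rw [← hcard]
    refine h1.trans ?_
    rw [← orderOf_mk y hyH]
    exact orderOf_dvd_natCard _
  have hqp : q ≠ p := fun e => hq.ne_one
    (Nat.dvd_one.1 (hcop.gcd_eq_one ▸ Nat.dvd_gcd hqd (e ▸ dvd_rfl)))
  have hyq : ∀ x ∈ (P : Subgroup X), y ^ q * x = x * y ^ q := by
    by_contra hall
    have h1 := hymin (y ^ q) ⟨pow_mem hyH q, hall⟩
    rw [orderOf_pow' y hq.ne_zero, Nat.gcd_eq_right hqd] at h1
    exact absurd h1 (not_le.2 (Nat.div_lt_self (orderOf_pos y) hq.one_lt))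
  refine ⟨⟨MulAut.conjNormal y, q, hq, hqp, ?_, ?_, ?_⟩⟩
  · intro e
    refine hy fun x hx => ?_
    have h1 := congrArg Subtype.val (MulEquiv.congr_fun e ⟨x, hx⟩)
    rw [MulAut.conjNormal_apply] at h1
    exact mul_inv_eq_iff_eq_mul.1 h1
  · rw [← map_pow]
    refine MulEquiv.ext fun x => Subtype.ext ?_
    rw [MulAut.conjNormal_apply, hyq x x.2, mul_inv_cancel_right]
    rfl
  · intro R hR hinv r hr
    set R' := R.map (P : Subgroup X).subtype with hR'
    have hyn : zpowers y ≤ normalizer (R' : Set X) := by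
      refine zpowers_le.2 ?_
      rw [Subgroup.mem_normalizer_iff_map_conj_eq]
      refine eq_of_le_of_card_ge ?_ (card_map_of_injective (MulEquiv.injective _)).ge
      rintro _ ⟨_, ⟨s, hs, rfl⟩, rfl⟩
      exact ⟨_, hinv s hs, MulAut.conjNormal_apply y s⟩
    have hYne : R' ⊔ zpowers y ≠ ⊤ := by
      intro e
      refine hR (eq_top_iff.2 fun x _ => ?_)
      have hx : (x : X) ∈ R' ⊔ zpowers y := e ▸ mem_top _
      rw [← SetLike.mem_coe, Subgroup.coe_mul_of_right_le_normalizer_left R' (zpowers y) hyn] at hx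
      obtain ⟨a, ha, b, hb, hab⟩ := hx
      have haP : a ∈ (P : Subgroup X) := map_subtype_le R ha
      have hbP : b ∈ (P : Subgroup X) := by
        have := mul_mem (inv_mem haP) x.2
        rwa [← hab, inv_mul_cancel_left] at this
      have hb1 : b = 1 := Subgroup.disjoint_def.1 hH.disjoint hbP (zpowers_le.2 hyH hb)
      obtain ⟨s, hs, hsa⟩ := ha
      dsimp only at hab
      rw [hb1, mul_one, ← hsa] at hab
      exact (Subtype.ext hab : s = x) ▸ hs
    haveI := hmin _ hYne
    have hcomm : Commute (⟨y, mem_sup_right (mem_zpowers y)⟩ : ↥(R' ⊔ zpowers y))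
        ⟨r, mem_sup_left ⟨r, hr, rfl⟩⟩ := by
      refine Char.nilpotent_commute_of_coprime ?_
      rw [orderOf_mk, orderOf_mk, orderOf_coe]
      obtain ⟨k, hk⟩ := IsPGroup.iff_orderOf.1 P.2 r
      rw [hk]
      exact hcop.pow_right k
    refine Subtype.ext ?_
    rw [MulAut.conjNormal_apply]
    exact mul_inv_eq_iff_eq_mul.2 (congrArg Subtype.val hcomm.eq)

variable {G : Type u} [Group G] [Finite G]

theorem isPGroup_of_extension {S D : Subgroup G} (hS : IsPGroup p S) (hSD : S ≤ D) {k : ℕ}
    (hk : S.relIndex D = p ^ k) : IsPGroup p D := by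
  obtain ⟨m, hm⟩ := IsPGroup.iff_card.1 hS
  refine IsPGroup.of_card (n := m + k) ?_
  have := Subgroup.relIndex_mul_relIndex ⊥ S D bot_le hSD
  rw [relIndex_bot_left, relIndex_bot_left, hm, hk] at this
  rw [← this, pow_add]

/-- The step excluding a second layer. -/
theorem sylow_le_pCore_of_cyclic_or_five (hG : IsPSolvable p G) (hO : pPrimeCore p G = ⊥)
    (Q : Sylow p G) (hQ : Good p Q)
    (hcase : 5 ≤ p ∨ (pCore p G).relIndex Q ∣ p) : (Q : Subgroup G) ≤ pCore p G := by
  classical
  set V := pCore p G with hVdef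
  have hVQ : V ≤ Q := pCore_le_sylow Q
  have hCV := centralizer_pCore_le hG hO
  have hVp : IsPGroup p V := isPGroup_pCore p G
  have hcen : ∀ z : Q, z ∈ center Q → (z : G) ∈ V := fun z hz => by
    refine hCV (Subgroup.mem_centralizer_iff.2 fun v hv => ?_)
    exact congrArg Subtype.val (mem_center_iff.1 hz ⟨v, hVQ hv⟩)
  haveI : V.Normal := pCore_normal p G
  set Φ := (frattini V).map V.subtype with hΦ
  haveI : Φ.Normal := ConjAct.normal_of_characteristic_of_normal
  set S := Cfsg.sectionKernel V Φ with hS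
  have hmemS : ∀ g, g ∈ S ↔ ∀ v ∈ V, ⁅g, v⁆ ∈ Φ := by
    intro g
    rw [hS, Cfsg.sectionKernel, mem_comap, mem_centralizer_iff]
    constructor
    · intro h v hv
      have h1 := h _ ⟨v, hv, rfl⟩
      rw [← QuotientGroup.eq_one_iff, commutatorElement_def]
      simp only [QuotientGroup.mk'_apply] at h1
      rw [QuotientGroup.mk_mul, QuotientGroup.mk_mul, QuotientGroup.mk_mul, ← h1,
        QuotientGroup.mk_inv, QuotientGroup.mk_inv, mul_inv_cancel_right, mul_inv_cancel]
    · rintro h _ ⟨v, hv, rfl⟩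
      have h1 := h v hv
      rw [← QuotientGroup.eq_one_iff, commutatorElement_def, QuotientGroup.mk_mul,
        QuotientGroup.mk_mul, QuotientGroup.mk_mul, QuotientGroup.mk_inv, QuotientGroup.mk_inv,
        mul_inv_eq_one, mul_inv_eq_iff_eq_mul] at h1
      exact h1.symm
  haveI hSn : S.Normal := by
    rw [hS, Cfsg.sectionKernel]
    haveI : (V.map (QuotientGroup.mk' Φ)).Normal :=
      (inferInstance : V.Normal).map _ (QuotientGroup.mk'_surjective _)
    exact Normal.comap Subgroup.normal_centralizer _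
  have hSp : IsPGroup p S := by
    intro g
    refine ⟨(orderOf g).factorization p, ?_⟩
    set e := (orderOf g).factorization p with he
    have hcop : (orderOf ((g : G) ^ p ^ e)).Coprime p := by
      have hdvd : p ^ e ∣ orderOf g := Nat.ordProj_dvd _ p
      rw [← orderOf_coe] at hdvd
      rw [orderOf_pow_of_dvd (pow_ne_zero _ hp.out.ne_zero) hdvd, orderOf_coe, he]
      exact (Nat.coprime_ordCompl hp.out (orderOf_pos g).ne').symm
    have hmem : (g : G) ^ p ^ e ∈ S := pow_mem g.2 _
    have hC : (g : G) ^ p ^ e ∈ centralizer (V : Set G) := by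
      refine mem_centralizer_iff.2 fun v hv => (PGroup.commute_of_coprime_of_frattini hVp hcop
        (normalizer_eq_top (H := V) ▸ mem_top _) (fun x hx => ?_) v hv).symm
      have h1 := (hmemS _).1 hmem x hx
      have h2 := (inferInstance : Φ.Normal).conj_mem _ h1 x⁻¹
      rw [inv_inv, commutatorElement_def] at h2
      rw [show x⁻¹ * ((g : G) ^ p ^ e * x * ((g : G) ^ p ^ e)⁻¹) =
        x⁻¹ * ((g : G) ^ p ^ e * x * ((g : G) ^ p ^ e)⁻¹ * x⁻¹) * x by group]
      exact h2
    obtain ⟨k, hk⟩ := IsPGroup.iff_orderOf.1 hVp ⟨_, hCV hC⟩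
    rw [orderOf_mk] at hk
    rw [hk] at hcop
    have h3 : orderOf ((g : G) ^ p ^ e) = 1 := by
      rw [hk]
      exact (Nat.coprime_self _).1 (hcop.pow_right k)
    exact Subtype.ext (orderOf_eq_one_iff.1 h3)
  by_cases hp5 : 5 ≤ p
  · have hst := (Stability.isActionPStable_of_pairFree (by omega)
      (Stability.pairFree_of_isPSolvable hp5 hG)
      fun H => Stability.pairFree_of_isPSolvable hp5 (isPSolvable_subgroup hG H)).2.1
    intro u hu
    have hquad : ⁅⁅V, zpowers u⁆, zpowers u⁆ ≤ Φ := by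
      refine le_trans ?_ bot_le
      have hle : ⁅V, zpowers u⁆ ≤ (center Q).map (Q : Subgroup G).subtype := by
        rw [Subgroup.commutator_le]
        intro v hv w hw
        exact ⟨⁅(⟨v, hVQ hv⟩ : Q), ⟨w, zpowers_le.2 hu hw⟩⁆, hQ.comm_mem _ _,
          map_commutatorElement (Q : Subgroup G).subtype _ _⟩
      rw [le_bot_iff, Subgroup.commutator_eq_bot_iff_le_centralizer]
      intro z hz
      obtain ⟨z, hz', rfl⟩ := hle hz
      exact mem_centralizer_iff.2 fun w hw =>
        congrArg Subtype.val (mem_center_iff.1 hz' ⟨w, zpowers_le.2 hu hw⟩)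
    obtain ⟨D, hDn, hSD, ⟨k, hk⟩, huD⟩ := hst u hquad
    exact le_pCore hDn (isPGroup_of_extension hSp hSD hk) huD
  have hdvd := hcase.resolve_left hp5
  rcases (Nat.dvd_prime hp.out).1 hdvd with h1 | h1
  · exact relIndex_eq_one.1 h1
  set V' := V.subgroupOf (Q : Subgroup G) with hV'
  have hfr := hQ.comm_frattini (by omega) V' h1 fun z hz => hcen z hz
  have hΦ' : ((frattini V').map V'.subtype).map (Q : Subgroup G).subtype = Φ := by
    rw [hΦ, ← PGroup.map_frattini (hVp.of_injective (subgroupOfEquivOfLe hVQ).toMonoidHom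
      (MulEquiv.injective _)) (subgroupOfEquivOfLe hVQ).toMonoidHom (MulEquiv.surjective _),
      Subgroup.map_map, Subgroup.map_map]
    rfl
  refine fun u hu => le_pCore hSn hSp ((hmemS u).2 fun v hv => ?_)
  rw [← hΦ']
  exact ⟨⁅(⟨u, hu⟩ : Q), ⟨v, hVQ hv⟩⁆, hfr _ _,
    map_commutatorElement (Q : Subgroup G).subtype _ _⟩

/-- With trivial `p'`-core the Sylow subgroup is normal. -/
theorem sylow_normal_aux : ∀ (n : ℕ) (G : Type u) [Group G] [Finite G], Nat.card G ≤ n →
    IsPSolvable p G → pPrimeCore p G = ⊥ → ∀ Q : Sylow p G, HasAuto p Q →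
      (Q : Subgroup G).Normal := by
  classical
  intro n
  induction n with
  | zero => intro G _ _ hn; exact absurd hn (not_le.2 Nat.card_pos)
  | succ n ih =>
    intro G _ _ hn hG hO Q hA
    have hQ : Good p Q := good_of_hasAuto Q.2 hA
    haveI hVn : (pCore p G).Normal := pCore_normal p G
    suffices hQV : (Q : Subgroup G) ≤ pCore p G by
      rw [le_antisymm hQV (pCore_le_sylow Q)]; exact hVn
    set V := pCore p G with hVdef
    have hVQ : V ≤ Q := pCore_le_sylow Q
    have hCV := centralizer_pCore_le hG hO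
    have hcen : ∀ z : Q, z ∈ center Q → (z : G) ∈ V := fun z hz => by
      refine hCV (Subgroup.mem_centralizer_iff.2 fun v hv => ?_)
      exact congrArg Subtype.val (mem_center_iff.1 hz ⟨v, hVQ hv⟩)
    let π := QuotientGroup.mk' V
    set Qb := (Q : Subgroup G).map π with hQb
    have hQbp : IsPGroup p Qb := Q.2.map π
    have hQbab : ∀ a ∈ Qb, ∀ b ∈ Qb, a * b = b * a := by
      rintro _ ⟨a, ha, rfl⟩ _ ⟨b, hb, rfl⟩
      refine commutatorElement_eq_one_iff_mul_comm.1 ?_
      rw [← map_commutatorElement, QuotientGroup.mk'_apply, QuotientGroup.eq_one_iff]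
      have h1 := hcen _ (hQ.comm_mem ⟨a, ha⟩ ⟨b, hb⟩)
      rwa [show ((⁅(⟨a, ha⟩ : Q), ⟨b, hb⟩⁆ : Q) : G) = ⁅a, b⁆ from
        map_commutatorElement (Q : Subgroup G).subtype _ _] at h1
    have hQbexp : ∀ a ∈ Qb, a ^ p = 1 := by
      rintro _ ⟨a, ha, rfl⟩
      rw [← map_pow, QuotientGroup.mk'_apply, QuotientGroup.eq_one_iff]
      exact hcen _ (hQ.pow_mem ⟨a, ha⟩)
    by_cases hcyc : IsCyclic Qb
    · refine sylow_le_pCore_of_cyclic_or_five hG hO Q hQ (Or.inr ?_)
      rw [← PSolv.card_map_mk_eq_relIndex]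
      obtain ⟨g, hg⟩ := hcyc.exists_generator
      rw [← orderOf_eq_card_of_forall_mem_zpowers hg]
      exact orderOf_dvd_of_pow_eq_one (Subtype.ext (hQbexp g g.2))
    exfalso
    have hOb : pCore p (G ⧸ V) = ⊥ := pCore_quotient_eq_bot p G
    set K := pPrimeCore p (G ⧸ V) with hK
    haveI : K.Normal := pPrimeCore_normal p _
    haveI : IsMulCommutative Qb := ⟨⟨fun a b => Subtype.ext (hQbab a a.2 b b.2)⟩⟩
    have hcop : (Nat.card Qb).Coprime (Nat.card K) := by
      obtain ⟨m, hm⟩ := IsPGroup.iff_card.1 hQbp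
      rw [hm]
      exact ((coprime_card_pPrimeCore p _).symm).pow_left m
    have hQK : ∀ a ∈ Qb, a ∈ K → a = 1 := fun a ha haK => by
      have : a ∈ (Qb ⊓ K : Subgroup (G ⧸ V)) := ⟨ha, haK⟩
      rwa [inf_eq_bot_of_coprime_card hcop, mem_bot] at this
    have hcent : K ≤ centralizer (Qb : Set (G ⧸ V)) := by
      rw [← Coprime.iSup_centralizer_eq (A := Qb) (K := K) hcyc
        (normalizer_eq_top (H := K) ▸ le_top) hcop]
      refine iSup₂_le fun a ha => ?_
      obtain ⟨haQ, ha1⟩ := ha
      set C := K ⊓ centralizer {a} with hC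
      set L := C ⊔ Qb with hL
      have hLc : L ≤ centralizer {a} := sup_le inf_le_right fun b hb =>
        mem_centralizer_singleton_iff.2 (hQbab b hb a haQ)
      have hLne : L ≠ ⊤ := by
        intro e
        have hac : a ∈ center (G ⧸ V) := mem_center_iff.2 fun b =>
          mem_centralizer_singleton_iff.1 (hLc (e ▸ mem_top b))
        have hn : (zpowers a).Normal := ⟨fun b hb g => by
          rw [mem_center_iff.1 (zpowers_le.2 hac hb) g, mul_inv_cancel_right]
          exact hb⟩
        have := le_pCore hn (hQbp.to_le (zpowers_le.2 haQ)) (mem_zpowers a)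
        rw [hOb, mem_bot] at this
        exact ha1 this
      set H := L.comap π with hH
      have hQH : (Q : Subgroup G) ≤ H := fun x hx => mem_sup_right ⟨x, hx, rfl⟩
      have hHne : H ≠ ⊤ := fun e => hLne (by
        rw [← map_comap_eq_self_of_surjective (QuotientGroup.mk'_surjective V) L]
        show H.map π = ⊤
        rw [e, map_top_of_surjective π (QuotientGroup.mk'_surjective V)])
      have hlt : Nat.card H ≤ n := by
        have h1 := Subgroup.card_le_card_group H
        have h2 : Nat.card H ≠ Nat.card G := fun e => hHne (eq_top_of_card_eq H e)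
        omega
      have hOH : pPrimeCore p H = ⊥ := by
        rw [eq_bot_iff]
        intro x hx
        have hVH : V ≤ H := hVQ.trans hQH
        have h1 : V.subgroupOf H ≤ pCore p H := le_pCore inferInstance
          ((isPGroup_pCore p G).of_injective (subgroupOfEquivOfLe hVH).toMonoidHom
            (MulEquiv.injective _))
        have hxV : (x : G) ∈ V := hCV (mem_centralizer_iff.2 fun v hv => by
          have := mem_centralizer_iff.1 (pPrimeCore_le_centralizer_pCore hx) ⟨v, hVH hv⟩
            (h1 (show (⟨v, hVH hv⟩ : H) ∈ V.subgroupOf H from hv))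
          exact congrArg Subtype.val this)
        have : x ∈ pPrimeCore p H ⊓ pCore p H := ⟨hx, h1 hxV⟩
        rwa [pPrimeCore_inf_pCore] at this
      have hnorm := ih H hlt (isPSolvable_subgroup hG H) hOH (Q.subtype hQH)
        (hA.congr (subgroupOfEquivOfLe hQH).symm)
      intro c hc
      refine mem_centralizer_iff.2 fun b hb => ?_
      obtain ⟨c', rfl⟩ := QuotientGroup.mk'_surjective V c
      obtain ⟨b', hb', rfl⟩ := hb
      have hcH : c' ∈ H := mem_sup_left hc
      have hconj : c' * b' * c'⁻¹ ∈ (Q : Subgroup G) :=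
        hnorm.conj_mem ⟨b', hQH hb'⟩ hb' ⟨c', hcH⟩
      have h2 : π c' * π b' * (π c')⁻¹ * (π b')⁻¹ = 1 := by
        refine hQK _ ?_ ?_
        · refine mul_mem ?_ (inv_mem ⟨b', hb', rfl⟩)
          rw [← map_inv, ← map_mul, ← map_mul]
          exact ⟨_, hconj, rfl⟩
        · rw [mul_assoc, mul_assoc]
          refine mul_mem hc.1 ?_
          rw [← mul_assoc]
          exact (inferInstance : K.Normal).conj_mem _ (inv_mem hc.1) _
      rw [mul_inv_eq_one, mul_inv_eq_iff_eq_mul] at h2
      exact h2.symm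
    have hle : Qb ≤ K := fun a ha => centralizer_pPrimeCore_le (isPSolvable_quotient hG V) hOb
      (mem_centralizer_iff.2 fun b hb =>
        (mem_centralizer_iff.1 (hcent hb) a ha).symm)
    haveI : Subsingleton Qb :=
      ⟨fun a b => Subtype.ext ((hQK a a.2 (hle a.2)).trans (hQK b b.2 (hle b.2)).symm)⟩
    exact hcyc inferInstance

theorem pLengthLE_one (hG : IsPSolvable p G) (Q : Sylow p G) (hA : HasAuto p Q) :
    PLengthLE p 1 G := by
  set N := pPrimeCore p G with hN
  haveI : N.Normal := pPrimeCore_normal p G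
  set Qb := Q.mapSurjective (QuotientGroup.mk'_surjective N) with hQb
  have hinj : Function.Injective
      ((QuotientGroup.mk' N).comp (Q : Subgroup G).subtype) := by
    rw [injective_iff_map_eq_one]
    intro x hx
    obtain ⟨m, hm⟩ := IsPGroup.iff_card.1 Q.2
    have hb : (Q : Subgroup G) ⊓ N = ⊥ := inf_eq_bot_of_coprime_card (by
      rw [hm]; exact ((coprime_card_pPrimeCore p G).symm).pow_left m)
    refine Subtype.ext ?_
    rw [coe_one, ← mem_bot, ← hb]
    exact ⟨x.2, (QuotientGroup.eq_one_iff _).1 hx⟩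
  have hA' : HasAuto p Qb := hA.congr
    ((MonoidHom.ofInjective hinj).trans (MulEquiv.subgroupCongr (by
      rw [MonoidHom.range_comp, Subgroup.range_subtype, hQb, Sylow.coe_mapSurjective])))
  have hn : (Qb : Subgroup (G ⧸ N)).Normal := sylow_normal_aux _ (G ⧸ N) le_rfl
    (isPSolvable_quotient hG N) (pPrimeCore_quotient_eq_bot p G) Qb hA'
  haveI := hn
  have h1 : PLengthLE p (1 + 0) (G ⧸ N) :=
    PLength.pLengthLE_add (Qb : Subgroup (G ⧸ N)) (PLength.pLengthLE_of_isPGroup Qb.2)
      (PLength.pLengthLE_zero_of_coprime (by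
        rw [← Subgroup.index_eq_card, Nat.coprime_comm, hp.out.coprime_iff_not_dvd]
        exact Qb.not_dvd_index))
  exact PLength.pLengthLE_add N (a := 0) (b := 1)
    (PLength.pLengthLE_zero_of_coprime (coprime_card_pPrimeCore p G)) h1

end Cfsg.Agent.PSolv.MNN
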